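import Groth.Agent.IndEtLib.Basic
import Groth.Agent.PairHensLib.Api

/-! Points of ind-étale algebras in henselian local rings. -/

set_option autoImplicit false
set_option linter.style.haveILetI false
set_option backward.isDefEq.respectTransparency false
set_option backward.defeqAttrib.useBackward true
universe u

open CategoryTheory CategoryTheory.Limits

namespace IndEtHensPtLib

variable {R S T K : Type u} [CommRing R] [CommRing S] [CommRing T] [CommRing K] [Algebra R S] [Algebra R T] [Algebra R K]

/-- An ind-étale algebra has exactly one point in a henselian pair above a point of the quotient. -/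
theorem existsUnique_algHom (hS : EtPBC.IsIndEtale R S) (u' : T →ₐ[R] K) (hu' : Function.Surjective u')
    [HenselianRing T (RingHom.ker u'.toRingHom)] (u : S →ₐ[R] K) :
    ∃! φ : S →ₐ[R] T, u'.comp φ = u := by
  obtain ⟨J, _, _, D, t, s, hs, hts⟩ := (IndEtLib.isIndEtale_iff R S).1 hS
  have hpt : ∀ j, ∃ ψ : D.obj j →+* T, (∀ r, ψ ((t.app j).hom r) = algebraMap R T r) ∧
      (∀ x, u' (ψ x) = u ((s.app j).hom x)) ∧
      ∀ ψ' : D.obj j →+* T, (∀ r, ψ' ((t.app j).hom r) = algebraMap R T r) →
        (∀ x, u' (ψ' x) = u ((s.app j).hom x)) → ψ' = ψ := by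
    intro j
    letI : Algebra R (D.obj j) := (t.app j).hom.toAlgebra
    haveI het : Algebra.Etale R (D.obj j) := (hts j).1
    let sj : D.obj j →ₐ[R] S := { (s.app j).hom with
      commutes' := fun r => ConcreteCategory.congr_hom (hts j).2 r }
    let e := Ideal.quotientKerAlgEquivOfSurjective hu'
    obtain ⟨τ, hτ⟩ := PairHensLib.exists_algHom_lift (C := T) (J := RingHom.ker u'.toRingHom)
      ((e.symm.toAlgHom).comp (u.comp sj))
    have h1 : ∀ x, u' (τ x) = u (sj x) := fun x => by
      have := congrArg e (AlgHom.congr_fun hτ x)
      exact this.trans (e.apply_symm_apply _)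
    refine ⟨τ.toRingHom, fun r => τ.commutes r, h1, fun ψ' hr hx => ?_⟩
    have : ({ ψ' with commutes' := hr } : D.obj j →ₐ[R] T) = τ :=
      PairHensLib.algHom_eq_of_sub_mem (J := RingHom.ker u'.toRingHom) _ _ fun x => by
        rw [RingHom.mem_ker]
        show u' (ψ' x - τ x) = 0
        rw [map_sub, hx, h1, sub_eq_zero]
        rfl
    exact congrArg AlgHom.toRingHom this
  choose ψ hψ1 hψ2 hψ3 using hpt
  let c : Cocone D :=
    { pt := CommRingCat.of T
      ι :=
        { app := fun j => CommRingCat.ofHom (ψ j)
          naturality := fun i j f => by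
            simp only [Functor.const_obj_map, Category.comp_id]
            refine CommRingCat.hom_ext (hψ3 i _ (fun r => ?_) fun x => ?_)
            · have h := ConcreteCategory.congr_hom (t.naturality f) r
              simp only [Functor.const_obj_map, CommRingCat.hom_comp, Category.id_comp] at h
              show ψ j ((D.map f).hom ((t.app i).hom r)) = _
              rw [show (D.map f).hom ((t.app i).hom r) = (t.app j).hom r from h.symm]
              exact hψ1 j r
            · have h := ConcreteCategory.congr_hom (s.naturality f) x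
              show u' (ψ j ((D.map f).hom x)) = _
              rw [hψ2 j]
              exact congrArg u h } }
  have hfac : ∀ j x, (hs.desc c).hom ((s.app j).hom x) = ψ j x := fun j x =>
    ConcreteCategory.congr_hom (hs.fac c j) x
  obtain ⟨j₀⟩ := IsFiltered.nonempty (C := J)
  let φ : S →ₐ[R] T := { (hs.desc c).hom with
    commutes' := fun r => by
      have h := ConcreteCategory.congr_hom (hts j₀).2 r
      show (hs.desc c).hom (algebraMap R S r) = _
      rw [show algebraMap R S r = (s.app j₀).hom ((t.app j₀).hom r) from h.symm, hfac, hψ1] }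
  have hjoint : ∀ y, ∃ j x, (s.app j).hom x = y := fun y =>
    Types.jointly_surjective _ (isColimitOfPreserves (forget CommRingCat.{u}) hs) y
  refine ⟨φ, AlgHom.ext fun y => ?_, fun φ' hφ' => AlgHom.ext fun y => ?_⟩
  · obtain ⟨j, x, rfl⟩ := hjoint y
    show u' ((hs.desc c).hom _) = _
    rw [hfac, hψ2]
  · obtain ⟨j, x, rfl⟩ := hjoint y
    show φ' _ = (hs.desc c).hom _
    rw [hfac]
    refine RingHom.congr_fun (hψ3 j (φ'.toRingHom.comp (s.app j).hom) (fun r => ?_) fun x => ?_) x
    · show φ' ((s.app j).hom ((t.app j).hom r)) = _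
      rw [show (s.app j).hom ((t.app j).hom r) = algebraMap R S r from ConcreteCategory.congr_hom (hts j).2 r]
      exact φ'.commutes r
    · exact AlgHom.congr_fun hφ' _

end IndEtHensPtLib
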